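import Groth.Agent.RelHull.Grp
import Groth.Agent.HullDed.FieldFlat
import Groth.Agent.GrpField.QAAffine
import Groth.Agent.GrpField.SchImgExists
import Groth.Agent.Grpd.FlatComp

/-!
# Over a field: a schematically dominant hull map of groups is faithfully flat
-/

universe u

open CategoryTheory CategoryTheory.Limits MonoidalCategory CartesianMonoidalCategory MonObj GrpObj AlgebraicGeometry

namespace Groth.Agent.RelHull

variable {k : Type u} [Field k]

/-- a homomorphism with affine kernel is affine -/
theorem isAffineHom_of_kernel {G H : Over (Spec (CommRingCat.of k))} [GrpObj G] [GrpObj H]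
    [LocallyOfFiniteType G.hom] [LocallyOfFiniteType H.hom] (f : G ⟶ H) [IsMonHom f] [QuasiCompact f.left]
    (hK : IsAffine (pullback f.left (η[H] : 𝟙_ (Over (Spec (CommRingCat.of k))) ⟶ H).left)) :
    IsAffineHom f.left := by
  obtain ⟨K, hK', i, g, hi, hg, hgi, hcl, hd, hqc, hsurj⟩ := GrpField.SchImg.exists_image f
  have : LocallyOfFiniteType K.hom := by rw [← Over.w i]; infer_instance
  have := GrpField.flat_of_schDom g ((isSchemeTheoreticallyDominant_iff _).1 hd)
  haveI : Mono i.left := inferInstance
  have hη : (η[K] : 𝟙_ (Over (Spec (CommRingCat.of k))) ⟶ K).left ≫ i.left =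
      (η[H] : 𝟙_ (Over (Spec (CommRingCat.of k))) ⟶ H).left := by
    rw [← Over.comp_left, IsMonHom.one_hom]
  have e : IsAffineHom (pullback.snd g.left (η[K] : 𝟙_ (Over (Spec (CommRingCat.of k))) ⟶ K).left) := by
    have hf : f.left = g.left ≫ i.left := by rw [← Over.comp_left, hgi]
    haveI : IsAffine (pullback (g.left ≫ i.left) ((η[K] : 𝟙_ (Over (Spec (CommRingCat.of k))) ⟶ K).left ≫ i.left)) := by
      rw [← hf, hη]; exact hK
    haveI : IsAffine (𝟙_ (Over (Spec (CommRingCat.of k)))).left := inferInstanceAs (IsAffine (Spec _))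
    haveI : IsAffine (pullback g.left (η[K] : 𝟙_ (Over (Spec (CommRingCat.of k))) ⟶ K).left) := by
      let φ := pullback.mapDesc g.left (η[K] : 𝟙_ (Over (Spec (CommRingCat.of k))) ⟶ K).left i.left
      haveI : IsIso φ := ⟨pullback.lift (pullback.fst _ _) (pullback.snd _ _) (by
        rw [← cancel_mono i.left, Category.assoc, Category.assoc, pullback.condition]),
        by
          apply pullback.hom_ext
          · simp only [φ, pullback.mapDesc, pullback.map, Category.assoc, Category.id_comp]
            erw [pullback.lift_fst, pullback.lift_fst]; rfl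
          · simp only [φ, pullback.mapDesc, pullback.map, Category.assoc, Category.id_comp]
            erw [pullback.lift_snd, pullback.lift_snd]; exact Category.comp_id _, by
          apply pullback.hom_ext
          · simp only [φ, pullback.mapDesc, pullback.map, Category.assoc, Category.id_comp]
            erw [pullback.lift_fst]; erw [pullback.lift_fst_assoc, Category.comp_id]
          · simp only [φ, pullback.mapDesc, pullback.map, Category.assoc, Category.id_comp]
            erw [pullback.lift_snd]; erw [pullback.lift_snd_assoc, Category.comp_id]⟩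
      exact .of_isIso φ
    exact isAffineHom_of_isAffine _
  have : IsAffineHom g.left := by
    refine MorphismProperty.of_pullback_snd_of_descendsAlong
      (Q := @Surjective ⊓ @Flat ⊓ @QuasiCompact) (f := g.left) (g := g.left)
      ⟨⟨inferInstance, inferInstance⟩, inferInstance⟩ ?_
    exact GrpField.snd_self_iff g @IsAffineHom e
  rw [← hgi, Over.comp_left]
  infer_instance

/-- **Flatness on the fibre.** -/
theorem flat_surjective_fibre {G X H : Over (Spec (CommRingCat.of k))} [GrpObj G] [GrpObj X] [GrpObj H]
    [LocallyOfFiniteType G.hom] [QuasiCompact G.hom] [LocallyOfFiniteType H.hom]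
    (r : G ⟶ X) (p : X ⟶ H) [IsMonHom r] [IsMonHom p] [IsAffineHom p.left] [QuasiCompact r.left]
    (hker : r.left.ker = ⊥) : Flat r.left ∧ Surjective r.left := by
  haveI : QuasiCompact (r ≫ p).left := by rw [Over.comp_left]; infer_instance
  obtain ⟨I, hI, i, g, hi, hg, hgi, hcl, hd, hqc, hsurj⟩ := GrpField.SchImg.exists_image (r ≫ p)
  haveI : LocallyOfFiniteType I.hom := by rw [← Over.w i]; infer_instance
  haveI := GrpField.flat_of_schDom g ((isSchemeTheoreticallyDominant_iff _).1 hd)
  haveI : Mono i.left := inferInstance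
  haveI : Mono i := GrpField.SchImg.mono_of_isClosedImmersion i
  -- the factorisation of `p` through the image
  have hle : i.left.ker ≤ p.left.ker := by
    have h1 : (r ≫ p).left.ker = p.left.ker := by
      rw [Over.comp_left, Scheme.Hom.ker_comp, hker, Scheme.IdealSheafData.map_bot]
    have h2 : (g ≫ i).left.ker = i.left.ker := by
      rw [Over.comp_left, Scheme.Hom.ker_comp, (isSchemeTheoreticallyDominant_iff _).1 hd,
        Scheme.IdealSheafData.map_bot]
    rw [← h1, ← h2, hgi]
  have hfac : IsClosedImmersion.lift i.left p.left hle ≫ i.left = p.left := IsClosedImmersion.lift_fac _ _ _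
  let q : X ⟶ I := Over.homMk (IsClosedImmersion.lift i.left p.left hle) (by
    rw [← Over.w i, reassoc_of% hfac, Over.w p])
  have hq : q ≫ i = p := by ext1; exact hfac
  haveI : IsMonHom q :=
    { one_hom := by rw [← cancel_mono i, Category.assoc, hq, IsMonHom.one_hom, IsMonHom.one_hom]
      mul_hom := by
        rw [← cancel_mono i, Category.assoc, hq, Category.assoc, IsMonHom.mul_hom, IsMonHom.mul_hom (f := i),
          tensorHom_comp_tensorHom_assoc, hq] }
  have hrq : r ≫ q = g := by rw [← cancel_mono i, Category.assoc, hq, hgi]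
  haveI : IsAffineHom q.left := by
    haveI : IsAffineHom (q.left ≫ i.left) := by rw [← Over.comp_left, hq]; infer_instance
    exact MorphismProperty.of_postcomp (W := @IsAffineHom) (W' := @IsSeparated) q.left i.left inferInstance this
  -- the kernels
  haveI : IsSeparated G.hom := GrpField.isSeparated_hom G
  haveI := GrpField.isClosedImmersion_eta I
  let κ := (η[I] : 𝟙_ (Over (Spec (CommRingCat.of k))) ⟶ I).left
  have hκ : κ ≫ I.hom = 𝟙 _ := Over.w η[I]
  let N : Over (Spec (CommRingCat.of k)) := Over.mk (pullback.fst g.left κ ≫ G.hom)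
  let Y : Over (Spec (CommRingCat.of k)) := Over.mk (pullback.fst q.left κ ≫ X.hom)
  let a : N ⟶ G := Over.homMk (pullback.fst g.left κ)
  let c : Y ⟶ X := Over.homMk (pullback.fst q.left κ)
  haveI : IsClosedImmersion a.left := inferInstanceAs (IsClosedImmersion (pullback.fst g.left κ))
  haveI : IsClosedImmersion c.left := inferInstanceAs (IsClosedImmersion (pullback.fst q.left κ))
  haveI : IsAffine Y.left := by
    haveI : IsAffine (𝟙_ (Over (Spec (CommRingCat.of k)))).left := inferInstanceAs (IsAffine (Spec _))
    exact (isAffine_of_isAffineHom (pullback.snd q.left κ) : IsAffine (pullback q.left κ))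
  have one_left : ∀ T : Over (Spec (CommRingCat.of k)), (1 : T ⟶ I).left = T.hom ≫ κ := fun T => by
    rw [Hom.one_def, Over.comp_left]; rfl
  have haone : a ≫ g = 1 := by
    ext1
    rw [one_left, Over.comp_left]
    show pullback.fst g.left κ ≫ g.left = (pullback.fst g.left κ ≫ G.hom) ≫ κ
    have e : pullback.fst g.left κ ≫ G.hom = pullback.snd g.left κ := by
      rw [← Over.w g, pullback.condition_assoc, hκ]
      exact Category.comp_id _
    rw [e, pullback.condition]
  have hcone : c ≫ q = 1 := by
    ext1
    rw [one_left, Over.comp_left]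
    show pullback.fst q.left κ ≫ q.left = (pullback.fst q.left κ ≫ X.hom) ≫ κ
    have e : pullback.fst q.left κ ≫ X.hom = pullback.snd q.left κ := by
      rw [← Over.w q, pullback.condition_assoc, hκ]
      exact Category.comp_id _
    rw [e, pullback.condition]
  have hfacN : ∀ (T : Over (Spec (CommRingCat.of k))) (x : T ⟶ G), x ≫ g = 1 → ∃ b : T ⟶ N, b ≫ a = x := by
    intro T x hx
    have h1 : x.left ≫ g.left = T.hom ≫ κ := by rw [← Over.comp_left, hx, one_left]
    exact ⟨Over.homMk (pullback.lift x.left T.hom h1) (by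
      show pullback.lift x.left T.hom h1 ≫ pullback.fst g.left κ ≫ G.hom = T.hom
      rw [pullback.lift_fst_assoc, Over.w]), by ext1; exact pullback.lift_fst _ _ _⟩
  have hfacY : ∀ (T : Over (Spec (CommRingCat.of k))) (x : T ⟶ X), x ≫ q = 1 → ∃ b : T ⟶ Y, b ≫ c = x := by
    intro T x hx
    have h1 : x.left ≫ q.left = T.hom ≫ κ := by rw [← Over.comp_left, hx, one_left]
    exact ⟨Over.homMk (pullback.lift x.left T.hom h1) (by
      show pullback.lift x.left T.hom h1 ≫ pullback.fst q.left κ ≫ X.hom = T.hom
      rw [pullback.lift_fst_assoc, Over.w]), by ext1; exact pullback.lift_fst _ _ _⟩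
  have hone1 : ∀ (G' : Over (Spec (CommRingCat.of k))) [GrpObj G'], (η[G'] : _ ⟶ G') = 1 := fun G' _ => by
    rw [Hom.one_def, toUnit_unit, Category.id_comp]
  obtain ⟨hN, ha⟩ := GrpField.SchImg.exists_grpObj_of_div a (hfacN _ η[G] (by
      rw [hone1 G, MonObj.one_comp]))
    (fun T k₁ k₂ => hfacN _ _ (by
      rw [MonObj.mul_comp, GrpObj.inv_comp, Category.assoc, Category.assoc, haone, MonObj.comp_one,
        MonObj.comp_one, inv_mul_cancel]))
  obtain ⟨hY, hc⟩ := GrpField.SchImg.exists_grpObj_of_div c (hfacY _ η[X] (by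
      rw [hone1 X, MonObj.one_comp]))
    (fun T k₁ k₂ => hfacY _ _ (by
      rw [MonObj.mul_comp, GrpObj.inv_comp, Category.assoc, Category.assoc, hcone, MonObj.comp_one,
        MonObj.comp_one, inv_mul_cancel]))
  haveI : Mono a := GrpField.SchImg.mono_of_isClosedImmersion a
  haveI : Mono c := GrpField.SchImg.mono_of_isClosedImmersion c
  obtain ⟨rN, hrN⟩ := hfacY N (a ≫ r) (by rw [Category.assoc, hrq, haone])
  haveI : IsMonHom rN :=
    { one_hom := by rw [← cancel_mono c, Category.assoc, hrN, ← Category.assoc, IsMonHom.one_hom,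
        IsMonHom.one_hom, IsMonHom.one_hom]
      mul_hom := by
        rw [← cancel_mono c, Category.assoc, hrN, Category.assoc, IsMonHom.mul_hom (f := c),
          ← Category.assoc μ[N], IsMonHom.mul_hom (f := a), Category.assoc, IsMonHom.mul_hom (f := r),
          tensorHom_comp_tensorHom_assoc, tensorHom_comp_tensorHom_assoc, hrN] }
  -- the two translation squares
  let Θ' : N ⊗ G ⟶ G := (fst N G ≫ a) * snd N G
  let Θ : Y ⊗ G ⟶ X := (fst Y G ≫ c) * (snd Y G ≫ r)
  have sq1 : IsPullback Θ' (rN ▷ G) r Θ := by
    have w : Θ' ≫ r = (rN ▷ G) ≫ Θ := by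
      simp only [Θ, Θ', MonObj.mul_comp, MonObj.comp_mul, Category.assoc, whiskerRight_fst_assoc,
        whiskerRight_snd_assoc, hrN]
    have hker : ∀ s : PullbackCone r Θ, (s.fst * (s.snd ≫ snd Y G)⁻¹) ≫ g = 1 := fun s => by
      rw [MonObj.mul_comp, GrpObj.inv_comp, ← hrq, ← Category.assoc s.fst, s.condition]
      simp only [Θ, MonObj.mul_comp, MonObj.comp_mul, Category.assoc, hcone, MonObj.comp_one,
        _root_.one_mul, mul_inv_cancel]
    choose n hn using fun s => hfacN _ _ (hker s)
    refine IsPullback.of_isLimit' ⟨w⟩ (PullbackCone.IsLimit.mk _ (fun s => lift (n s) (s.snd ≫ snd Y G))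
      (fun s => ?_) (fun s => ?_) ?_)
    · simp only [Θ', MonObj.comp_mul, lift_fst_assoc, lift_snd, hn, inv_mul_cancel_right]
    · apply CartesianMonoidalCategory.hom_ext
      · rw [Category.assoc, whiskerRight_fst, lift_fst_assoc, ← cancel_mono c]
        simp only [Category.assoc, hrN, reassoc_of% (hn s), MonObj.mul_comp, GrpObj.inv_comp, s.condition]
        simp only [Θ, MonObj.comp_mul, Category.assoc, mul_inv_cancel_right]
      · rw [Category.assoc, whiskerRight_snd, lift_snd]
    · intro s m h1 h2
      have hs : m ≫ snd N G = s.snd ≫ snd Y G := by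
        rw [← h2, Category.assoc, whiskerRight_snd]
      apply CartesianMonoidalCategory.hom_ext
      · rw [lift_fst, ← cancel_mono a, hn, ← h1, ← hs]
        simp only [Θ', MonObj.comp_mul, Category.assoc, mul_inv_cancel_right]
      · rw [lift_snd, hs]
  have sq2 : IsPullback Θ (snd Y G) q g := by
    have w : Θ ≫ q = snd Y G ≫ g := by
      simp only [Θ, MonObj.mul_comp, Category.assoc, hcone, MonObj.comp_one, _root_.one_mul, hrq]
    have hker : ∀ s : PullbackCone q g, (s.fst * (s.snd ≫ r)⁻¹) ≫ q = 1 := fun s => by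
      rw [MonObj.mul_comp, GrpObj.inv_comp, Category.assoc, hrq, s.condition, mul_inv_cancel]
    choose y hy using fun s => hfacY _ _ (hker s)
    refine IsPullback.of_isLimit' ⟨w⟩ (PullbackCone.IsLimit.mk _ (fun s => lift (y s) s.snd)
      (fun s => ?_) (fun s => lift_snd _ _) ?_)
    · simp only [Θ, MonObj.comp_mul, lift_fst_assoc, lift_snd_assoc, hy, inv_mul_cancel_right]
    · intro s m h1 h2
      apply CartesianMonoidalCategory.hom_ext
      · rw [lift_fst, ← cancel_mono c, hy, ← h1, ← h2]
        simp only [Θ, MonObj.comp_mul, Category.assoc, mul_inv_cancel_right]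
      · rw [lift_snd, h2]
  have hsq1 : IsPullback Θ'.left (rN ▷ G).left r.left Θ.left := sq1.map (Over.forget _)
  have hsq2 : IsPullback Θ.left (snd Y G).left q.left g.left := sq2.map (Over.forget _)
  haveI : Flat Θ.left := MorphismProperty.of_isPullback hsq2.flip ‹Flat g.left›
  haveI : Surjective Θ.left := MorphismProperty.of_isPullback hsq2.flip ‹Surjective g.left›
  haveI : IsSchemeTheoreticallyDominant r.left := (isSchemeTheoreticallyDominant_iff _).2 hker
  haveI : IsSchemeTheoreticallyDominant (rN ▷ G).left := IsSchemeTheoreticallyDominant.of_isPullback hsq1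
  haveI : IsSchemeTheoreticallyDominant G.hom := by
    haveI : Surjective G.hom := ⟨fun y => ⟨(η[G] : 𝟙_ (Over (Spec (CommRingCat.of k))) ⟶ G).left y,
      Subsingleton.elim (α := PrimeSpectrum k) _ _⟩⟩
    exact .of_isDominant _
  haveI hfst : IsSchemeTheoreticallyDominant (fst Y G).left :=
    inferInstanceAs (IsSchemeTheoreticallyDominant (pullback.fst Y.hom G.hom))
  haveI : QuasiCompact rN.left := by
    haveI : IsAffineHom Y.hom := isAffineHom_of_isAffine Y.hom
    haveI : QuasiCompact (rN.left ≫ Y.hom) := by
      rw [Over.w]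
      show QuasiCompact (pullback.fst g.left κ ≫ G.hom)
      infer_instance
    exact QuasiCompact.of_comp rN.left Y.hom
  have hrNker : rN.left.ker = ⊥ := by
    refine eq_bot_iff.2 ((Scheme.Hom.le_ker_comp (fst N G).left rN.left).trans ?_)
    rw [← Over.comp_left, ← whiskerRight_fst rN G, Over.comp_left, Scheme.Hom.ker_comp,
      (isSchemeTheoreticallyDominant_iff _).1 ‹IsSchemeTheoreticallyDominant (rN ▷ G).left›,
      Scheme.IdealSheafData.map_bot]
    exact ((isSchemeTheoreticallyDominant_iff _).1 hfst).le
  obtain ⟨hflat, hsur⟩ := HullDed.flat_surjective_of_schDom rN hrNker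
  haveI : Flat (rN ▷ G).left := MorphismProperty.of_isPullback (isPullback_whiskerRight rN G) hflat
  haveI : Surjective (rN ▷ G).left := MorphismProperty.of_isPullback (isPullback_whiskerRight rN G) hsur
  haveI : Flat Θ'.left := MorphismProperty.of_isPullback hsq1.flip ‹Flat Θ.left›
  haveI : Surjective Θ'.left := MorphismProperty.of_isPullback hsq1.flip ‹Surjective Θ.left›
  haveI : Flat (Θ'.left ≫ r.left) := by rw [hsq1.w]; infer_instance
  haveI : Surjective (Θ'.left ≫ r.left) := by rw [hsq1.w]; infer_instance
  exact ⟨GrpdLib.flat_of_flat_comp Θ'.left r.left, Surjective.of_comp Θ'.left r.left⟩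

end Groth.Agent.RelHull
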