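import Groth.Agent.RelHull.Basic
import Mathlib.CategoryTheory.Monoidal.Cartesian.Over
import Mathlib.CategoryTheory.Monoidal.Cartesian.Grp

/-!
# The group structure on the relative affine hull of a homomorphism
-/

universe u

open CategoryTheory CategoryTheory.Limits MonoidalCategory CartesianMonoidalCategory MonObj GrpObj AlgebraicGeometry

namespace Groth.Agent.RelHull

variable {S : Scheme.{u}}

/-- `q_* 𝒪 = 𝒪`, with quasi-compactness -/
structure IsQHull {P Q : Over S} (q : P ⟶ Q) : Prop where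
  qc : QuasiCompact q.left
  qs : QuasiSeparated q.left
  hull : IsHull q.left

theorem IsQHull.comp {P Q R : Over S} {q : P ⟶ Q} {r : Q ⟶ R} (hq : IsQHull q) (hr : IsQHull r) :
    IsQHull (q ≫ r) := by
  haveI := hq.qc; haveI := hq.qs; haveI := hr.qc; haveI := hr.qs
  refine ⟨?_, ?_, ?_⟩
  · rw [Over.comp_left]; infer_instance
  · rw [Over.comp_left]; infer_instance
  · rw [Over.comp_left]; exact hq.hull.comp hr.hull

theorem flat_fst {X Y : Over S} [Flat Y.hom] : Flat (fst X Y).left :=
  MorphismProperty.pullback_fst (P := @Flat) X.hom Y.hom ‹_›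

theorem flat_snd {X Y : Over S} [Flat X.hom] : Flat (snd X Y).left :=
  MorphismProperty.pullback_snd (P := @Flat) X.hom Y.hom ‹_›

theorem flat_tensor_hom {X Y : Over S} [Flat X.hom] [Flat Y.hom] : Flat (X ⊗ Y).hom := by
  haveI := flat_fst (X := X) (Y := Y)
  rw [← Over.w (fst X Y)]; infer_instance

theorem isPullback_whiskerRight {X X' : Over S} (g : X ⟶ X') (Y : Over S) :
    IsPullback (fst X Y).left (g ▷ Y).left g.left (fst X' Y).left := by
  have e : (g ▷ Y).left ≫ (snd X' Y).left = (snd X Y).left :=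
    congr($(whiskerRight_snd g Y).left)
  have e' : (g ▷ Y).left ≫ (fst X' Y).left = (fst X Y).left ≫ g.left :=
    congr($(whiskerRight_fst g Y).left)
  have big : IsPullback (snd X Y).left (fst X Y).left Y.hom X.hom :=
    (IsPullback.of_hasPullback X.hom Y.hom).flip
  have small : IsPullback (snd X' Y).left (fst X' Y).left Y.hom X'.hom :=
    (IsPullback.of_hasPullback X'.hom Y.hom).flip
  have : IsPullback (g ▷ Y).left (fst X Y).left (fst X' Y).left g.left := by
    refine IsPullback.of_right ?_ e' small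
    rw [e, Over.w g]
    exact big
  exact this.flip

theorem isPullback_whiskerLeft {X X' : Over S} (g : X ⟶ X') (Y : Over S) :
    IsPullback (snd Y X).left (Y ◁ g).left g.left (snd Y X').left := by
  have e : (Y ◁ g).left ≫ (fst Y X').left = (fst Y X).left :=
    congr($(whiskerLeft_fst Y g).left)
  have e' : (Y ◁ g).left ≫ (snd Y X').left = (snd Y X).left ≫ g.left :=
    congr($(whiskerLeft_snd Y g).left)
  have big : IsPullback (fst Y X).left (snd Y X).left Y.hom X.hom :=
    IsPullback.of_hasPullback Y.hom X.hom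
  have small : IsPullback (fst Y X').left (snd Y X').left Y.hom X'.hom :=
    IsPullback.of_hasPullback Y.hom X'.hom
  have : IsPullback (Y ◁ g).left (snd Y X).left (snd Y X').left g.left := by
    refine IsPullback.of_right ?_ e' small
    rw [e, Over.w g]
    exact big
  exact this.flip

theorem IsQHull.whiskerRight {P Q : Over S} {q : P ⟶ Q} (hq : IsQHull q) (Y : Over S) [Flat Y.hom] :
    IsQHull (q ▷ Y) := by
  haveI := hq.qc; haveI := hq.qs
  haveI := flat_fst (X := Q) (Y := Y)
  exact ⟨MorphismProperty.of_isPullback (isPullback_whiskerRight q Y) hq.qc,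
    MorphismProperty.of_isPullback (isPullback_whiskerRight q Y) hq.qs,
    hq.hull.of_isPullback (isPullback_whiskerRight q Y)⟩

theorem IsQHull.whiskerLeft {P Q : Over S} {q : P ⟶ Q} (hq : IsQHull q) (Y : Over S) [Flat Y.hom] :
    IsQHull (Y ◁ q) := by
  haveI := hq.qc; haveI := hq.qs
  haveI := flat_snd (X := Y) (Y := Q)
  exact ⟨MorphismProperty.of_isPullback (isPullback_whiskerLeft q Y) hq.qc,
    MorphismProperty.of_isPullback (isPullback_whiskerLeft q Y) hq.qs,
    hq.hull.of_isPullback (isPullback_whiskerLeft q Y)⟩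

variable {B Z : Over S} (τ : Z ⟶ B) [IsAffineHom τ.left]

theorem IsQHull.eq_of_comp {P Q : Over S} {q : P ⟶ Q} (hq : IsQHull q) {g g' : Q ⟶ Z}
    (h₁ : g ≫ τ = g' ≫ τ) (h₂ : q ≫ g = q ≫ g') : g = g' := by
  haveI := hq.qc; haveI := hq.qs
  ext1
  exact hq.hull.eq_of_comp τ.left congr($(h₁).left) congr($(h₂).left)

theorem IsQHull.exists_factor {P Q : Over S} {q : P ⟶ Q} (hq : IsQHull q) (f : P ⟶ Z) (b : Q ⟶ B)
    (h : f ≫ τ = q ≫ b) : ∃ g : Q ⟶ Z, g ≫ τ = b ∧ q ≫ g = f := by
  haveI := hq.qc; haveI := hq.qs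
  obtain ⟨g, hg₁, hg₂⟩ := hq.hull.exists_factor τ.left f.left b.left congr($(h).left)
  refine ⟨Over.homMk g ?_, ?_, ?_⟩
  · rw [← Over.w τ, reassoc_of% hg₁, Over.w b]
  · ext1; exact hg₁
  · ext1; exact hg₂

/-- **The relative affine hull of a homomorphism of flat groups is a group.** -/
theorem exists_grpObj {G X H : Over S} [GrpObj G] [GrpObj H] (r : G ⟶ X) (p : X ⟶ H)
    [IsMonHom (r ≫ p)] [IsAffineHom p.left] [Flat G.hom] [Flat X.hom] (hr : IsQHull r) :
    ∃ _ : GrpObj X, IsMonHom r ∧ IsMonHom p := by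
  haveI : Flat (𝟙_ (Over S)).hom := inferInstanceAs (Flat (𝟙 S))
  haveI := flat_tensor_hom (X := X) (Y := X)
  have h2 : IsQHull (r ⊗ₘ r) := by
    rw [MonoidalCategory.tensorHom_def]
    exact (hr.whiskerRight G).comp (hr.whiskerLeft X)
  have h3 : IsQHull ((r ⊗ₘ r) ⊗ₘ r) := by
    rw [MonoidalCategory.tensorHom_def (r ⊗ₘ r) r]
    exact (h2.whiskerRight G).comp (hr.whiskerLeft (X ⊗ X))
  have hmul : μ[G] ≫ r ≫ p = ((r ≫ p) ⊗ₘ (r ≫ p)) ≫ μ[H] := IsMonHom.mul_hom (f := r ≫ p)
  obtain ⟨m, hmp, hm⟩ := h2.exists_factor p (μ[G] ≫ r) ((p ⊗ₘ p) ≫ μ[H]) (by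
    rw [Category.assoc, hmul, tensorHom_comp_tensorHom_assoc])
  obtain ⟨i, hip, hi⟩ := hr.exists_factor p (ι[G] ≫ r) (p ≫ ι[H]) (by
    rw [Category.assoc, GrpObj.inv_hom, Category.assoc])
  have hone : (η[G] ≫ r) ≫ p = η[H] := by
    rw [Category.assoc]; exact IsMonHom.one_hom (f := r ≫ p)
  letI inst : GrpObj X :=
    { one := η[G] ≫ r
      mul := m
      inv := i
      one_mul := (hr.whiskerLeft (𝟙_ (Over S))).eq_of_comp p (by
        rw [Category.assoc, hmp, ← tensorHom_id, tensorHom_comp_tensorHom_assoc, Category.id_comp, hone,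
          show (η[H] ⊗ₘ p) = (𝟙_ (Over S) ◁ p) ≫ (η[H] ▷ H) by
            rw [← id_tensorHom, ← tensorHom_id, tensorHom_comp_tensorHom, Category.id_comp, Category.comp_id],
          Category.assoc, MonObj.one_mul, leftUnitor_naturality]) (by
        rw [← Category.assoc, ← id_tensorHom, ← tensorHom_id, tensorHom_comp_tensorHom,
          Category.id_comp, Category.comp_id, show ((η[G] ≫ r) ⊗ₘ r) = (η[G] ▷ G) ≫ (r ⊗ₘ r) by
            rw [← tensorHom_id, tensorHom_comp_tensorHom, Category.id_comp],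
          Category.assoc, hm, MonObj.one_mul_assoc, id_tensorHom, leftUnitor_naturality])
      mul_one := (hr.whiskerRight (𝟙_ (Over S))).eq_of_comp p (by
        rw [Category.assoc, hmp, ← id_tensorHom, tensorHom_comp_tensorHom_assoc, Category.id_comp, hone,
          show (p ⊗ₘ η[H]) = (p ▷ 𝟙_ (Over S)) ≫ (H ◁ η[H]) by
            rw [← id_tensorHom, ← tensorHom_id, tensorHom_comp_tensorHom, Category.id_comp, Category.comp_id],
          Category.assoc, MonObj.mul_one, rightUnitor_naturality]) (by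
        rw [← Category.assoc, ← id_tensorHom, ← tensorHom_id, tensorHom_comp_tensorHom,
          Category.id_comp, Category.comp_id, show (r ⊗ₘ (η[G] ≫ r)) = (G ◁ η[G]) ≫ (r ⊗ₘ r) by
            rw [← id_tensorHom, tensorHom_comp_tensorHom, Category.id_comp],
          Category.assoc, hm, MonObj.mul_one_assoc, tensorHom_id, rightUnitor_naturality])
      mul_assoc := h3.eq_of_comp p (by
        simp only [Category.assoc, hmp]
        rw [← tensorHom_id, ← id_tensorHom, tensorHom_comp_tensorHom_assoc, tensorHom_comp_tensorHom_assoc,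
          hmp, Category.id_comp,
          show (((p ⊗ₘ p) ≫ μ[H]) ⊗ₘ p) = ((p ⊗ₘ p) ⊗ₘ p) ≫ (μ[H] ▷ H) by
            rw [← tensorHom_id, tensorHom_comp_tensorHom, Category.comp_id],
          show (p ⊗ₘ ((p ⊗ₘ p) ≫ μ[H])) = (p ⊗ₘ (p ⊗ₘ p)) ≫ (H ◁ μ[H]) by
            rw [← id_tensorHom, tensorHom_comp_tensorHom, Category.comp_id],
          Category.assoc, Category.assoc, MonObj.mul_assoc, associator_naturality_assoc]) (by
        rw [associator_naturality_assoc, ← tensorHom_id, ← id_tensorHom,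
          tensorHom_comp_tensorHom_assoc, tensorHom_comp_tensorHom_assoc, hm, Category.comp_id,
          show ((μ[G] ≫ r) ⊗ₘ r) = (μ[G] ▷ G) ≫ (r ⊗ₘ r) by
            rw [← tensorHom_id, tensorHom_comp_tensorHom, Category.id_comp],
          show (r ⊗ₘ (μ[G] ≫ r)) = (G ◁ μ[G]) ≫ (r ⊗ₘ r) by
            rw [← id_tensorHom, tensorHom_comp_tensorHom, Category.id_comp],
          Category.assoc, Category.assoc, hm, MonObj.mul_assoc_assoc])
      left_inv := hr.eq_of_comp p (by
        rw [Category.assoc, hmp, Category.assoc, hone, lift_map_assoc, hip, Category.id_comp,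
          show lift (p ≫ ι[H]) p = p ≫ lift ι[H] (𝟙 H) by rw [comp_lift, Category.comp_id],
          Category.assoc, GrpObj.left_inv, comp_toUnit_assoc]) (by
        rw [comp_lift_assoc, Category.comp_id, hi, show lift (ι[G] ≫ r) r = lift ι[G] (𝟙 G) ≫ (r ⊗ₘ r) by
          rw [lift_map, Category.id_comp], Category.assoc, hm, GrpObj.left_inv_assoc, comp_toUnit_assoc])
      right_inv := hr.eq_of_comp p (by
        rw [Category.assoc, hmp, Category.assoc, hone, lift_map_assoc, hip, Category.id_comp,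
          show lift p (p ≫ ι[H]) = p ≫ lift (𝟙 H) ι[H] by rw [comp_lift, Category.comp_id],
          Category.assoc, GrpObj.right_inv, comp_toUnit_assoc]) (by
        rw [comp_lift_assoc, Category.comp_id, hi, show lift r (ι[G] ≫ r) = lift (𝟙 G) ι[G] ≫ (r ⊗ₘ r) by
          rw [lift_map, Category.id_comp], Category.assoc, hm, GrpObj.right_inv_assoc, comp_toUnit_assoc]) }
  exact ⟨inst, ⟨rfl, hm.symm⟩, ⟨hone, hmp⟩⟩

end Groth.Agent.RelHull
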