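import Groth.Agent.RelSpecUP.Basic
import Mathlib.AlgebraicGeometry.Morphisms.Flat
import Mathlib.AlgebraicGeometry.Morphisms.QuasiSeparated

/-!
# Morphisms with `q_* 𝒪 = 𝒪` and the relative affine hull
-/

universe u

open CategoryTheory CategoryTheory.Limits AlgebraicGeometry TopologicalSpace Opposite

namespace Groth.Agent.RelHull

/-- `q_* 𝒪_P = 𝒪_Q` -/
def IsHull {P Q : Scheme.{u}} (q : P ⟶ Q) : Prop := ∀ V : Q.Opens, IsIso (q.app V)

variable {P Q : Scheme.{u}}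

theorem IsHull.comp {R : Scheme.{u}} {q : P ⟶ Q} {r : Q ⟶ R} (hq : IsHull q) (hr : IsHull r) :
    IsHull (q ≫ r) := fun V => by
  haveI := hr V
  haveI := hq (r ⁻¹ᵁ V)
  rw [Scheme.Hom.comp_app]
  exact (asIso (r.app V) ≪≫ asIso (q.app (r ⁻¹ᵁ V))).isIso_hom

theorem IsHull.of_iso (q : P ⟶ Q) [IsIso q] : IsHull q := fun V => inferInstance

theorem IsHull.appTop {q : P ⟶ Q} (hq : IsHull q) : IsIso q.appTop := hq ⊤

theorem isIso_app_basicOpen (q : P ⟶ Q) [QuasiCompact q] [QuasiSeparated q] {V : Q.Opens}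
    (hV : IsAffineOpen V) (h : IsIso (q.app V)) (r : Γ(Q, V)) : IsIso (q.app (Q.basicOpen r)) := by
  haveI : IsLocalization.Away r Γ(Q, Q.basicOpen r) := hV.isLocalization_basicOpen r
  have hc : IsCompact (q ⁻¹ᵁ V).1 := q.isCompact_preimage hV.isCompact
  have hs : IsQuasiSeparated (q ⁻¹ᵁ V).1 := by
    haveI : QuasiSeparated (q ∣_ V) := inferInstance
    haveI : IsAffine V := hV
    exact (isQuasiSeparated_iff_quasiSeparatedSpace _ (q ⁻¹ᵁ V).2).2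
      (quasiSeparatedSpace_of_quasiSeparated (q ∣_ V))
  let W := P.basicOpen (q.app V r)
  haveI : IsLocalization.Away (q.app V r) Γ(P, W) := isLocalization_basicOpen_of_qcqs hc hs _
  let res : Γ(P, W) ⟶ Γ(P, q ⁻¹ᵁ Q.basicOpen r) :=
    P.presheaf.map (eqToHom (Scheme.preimage_basicOpen q r)).op
  let e := IsLocalization.ringEquivOfRingEquiv (M := Submonoid.powers r) Γ(Q, Q.basicOpen r)
    (T := Submonoid.powers (q.app V r)) Γ(P, W) (asIso (q.app V)).commRingCatIsoToRingEquiv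
    (Submonoid.map_powers _ r)
  have key : q.app (Q.basicOpen r) = CommRingCat.ofHom e.toRingHom ≫ res := by
    ext : 1
    refine IsLocalization.ringHom_ext (Submonoid.powers r) (RingHom.ext fun x => ?_)
    have h1 := congr($(q.naturality (homOfLE (Q.basicOpen_le r)).op) x)
    refine h1.trans ?_
    show _ = res (e (algebraMap Γ(Q, V) Γ(Q, Q.basicOpen r) x))
    rw [IsLocalization.ringEquivOfRingEquiv_eq]
    show _ = (P.presheaf.map (homOfLE (P.basicOpen_le _)).op ≫ res) (q.app V x)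
    rw [← P.presheaf.map_comp]
    rfl
  rw [key]
  haveI : IsIso (CommRingCat.ofHom e.toRingHom) := (ConcreteCategory.isIso_iff_bijective _).2 e.bijective
  infer_instance

/-- It suffices to check on an affine cover. -/
theorem isHull_of_affines (q : P ⟶ Q) [QuasiCompact q] [QuasiSeparated q] {ι : Type*} (V : ι → Q.Opens)
    (hV : ∀ i, IsAffineOpen (V i)) (hcov : ∀ x, ∃ i, x ∈ V i) (h : ∀ i, IsIso (q.app (V i))) :
    IsHull q := by
  let σ := Σ i, Γ(Q, V i)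
  let B : σ → Q.Opens := fun s => Q.basicOpen s.2
  have hB : Opens.IsBasis (Set.range B) := by
    rw [Opens.isBasis_iff_nbhd]
    intro U x hx
    obtain ⟨i, hi⟩ := hcov x
    obtain ⟨r, hrU, hxr⟩ := (hV i).exists_basicOpen_le (V := U) ⟨x, hx⟩ hi
    exact ⟨_, ⟨⟨i, r⟩, rfl⟩, hxr, hrU⟩
  have hb : ∀ s, IsIso (q.app (B s)) := fun s => isIso_app_basicOpen q (hV s.1) (h s.1) s.2
  let G : TopCat.Sheaf CommRingCat.{u} Q := (TopCat.Sheaf.pushforward _ q.base).obj P.sheaf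
  let f : Q.sheaf ⟶ G := ⟨q.c⟩
  intro U
  haveI : ∀ x : Q, IsIso ((TopCat.Presheaf.stalkFunctor CommRingCat x).map f.1) := fun x => by
    rw [ConcreteCategory.isIso_iff_bijective]
    refine ⟨TopCat.Presheaf.stalkFunctor_map_injective_of_isBasis hB ?_ x, fun t => ?_⟩
    · rintro _ ⟨s, rfl⟩
      exact (@ConcreteCategory.bijective_of_isIso _ _ _ _ _ _ _ _ _ (hb s)).1
    · obtain ⟨U, hxU, hU, t', rfl⟩ := TopCat.Presheaf.exists_mem_germ_eq_of_isBasis hB G.1 x t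
      obtain ⟨s, rfl⟩ := hU
      obtain ⟨a, ha⟩ := (@ConcreteCategory.bijective_of_isIso _ _ _ _ _ _ _ _ _ (hb s)).2 t'
      refine ⟨Q.presheaf.germ (B s) x hxU a, ?_⟩
      erw [TopCat.Presheaf.stalkFunctor_map_germ_apply]
      exact congrArg _ ha
  exact TopCat.Presheaf.app_isIso_of_stalkFunctor_map_iso f U

/-- Base change along a flat morphism. -/
theorem IsHull.of_isPullback {P' Q' : Scheme.{u}} {q : P ⟶ Q} {q' : P' ⟶ Q'} {g' : P' ⟶ P} {g : Q' ⟶ Q}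
    (sq : IsPullback g' q' q g) [Flat g] [QuasiCompact q] [QuasiSeparated q] (hq : IsHull q) :
    IsHull q' := by
  haveI : QuasiCompact q' := MorphismProperty.of_isPullback sq.flip.flip ‹QuasiCompact q›
  haveI : QuasiSeparated q' := MorphismProperty.of_isPullback sq.flip.flip ‹QuasiSeparated q›
  refine isHull_of_affines q' (ι := {W : Q'.affineOpens // ∃ V : Q.affineOpens, (W : Q'.Opens) ≤ g ⁻¹ᵁ V})
    (fun W => W.1.1) (fun W => W.1.2) (fun x => ?_) fun W => ?_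
  · obtain ⟨_, ⟨V, hV, rfl⟩, hxV, -⟩ :=
      Q.isBasis_affineOpens.exists_subset_of_mem_open (Set.mem_univ (g x)) isOpen_univ
    obtain ⟨_, ⟨W, hW, rfl⟩, hxW, hWV⟩ :=
      Q'.isBasis_affineOpens.exists_subset_of_mem_open (a := x) (u := (g ⁻¹ᵁ V : Q'.Opens)) hxV (g ⁻¹ᵁ V).2
    exact ⟨⟨⟨W, hW⟩, ⟨⟨V, hV⟩, hWV⟩⟩, hxW⟩
  obtain ⟨⟨W, hW⟩, ⟨V, hV⟩, hWV⟩ := W
  haveI : IsAffine V := hV
  haveI := hq V
  have hqs : IsQuasiSeparated (q ⁻¹ᵁ V).1 :=
    (isQuasiSeparated_iff_quasiSeparatedSpace _ (q ⁻¹ᵁ V).2).2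
      (quasiSeparatedSpace_of_quasiSeparated (q ∣_ V))
  have hUY : q' ⁻¹ᵁ W = g' ⁻¹ᵁ (q ⁻¹ᵁ V) ⊓ q' ⁻¹ᵁ W := by
    rw [← Scheme.Hom.comp_preimage, sq.w, Scheme.Hom.comp_preimage, right_eq_inf]
    exact q'.preimage_mono hWV
  haveI := isIso_pushoutSection_of_isQuasiSeparated_of_flat_right sq (US := V) (UT := W)
    (UX := q ⁻¹ᵁ V) (UY := q' ⁻¹ᵁ W) hWV le_rfl hUY hV hW
    (q.isCompact_preimage hV.isCompact) hqs
  have PO := (isIso_pushoutSection_iff sq (US := V) (UT := W)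
    (UX := q ⁻¹ᵁ V) (UY := q' ⁻¹ᵁ W) hWV le_rfl hUY).1 inferInstance
  show IsIso (q'.app W)
  rw [Scheme.Hom.app_eq_appLE]
  have : IsIso (q.appLE V (q ⁻¹ᵁ V) le_rfl) := by rw [← Scheme.Hom.app_eq_appLE]; infer_instance
  exact PO.isIso_inr_of_isIso this

theorem IsHull.restrict {q : P ⟶ Q} [QuasiCompact q] [QuasiSeparated q] (hq : IsHull q) (V : Q.Opens) :
    IsHull (q ∣_ V) :=
  hq.of_isPullback (isPullback_morphismRestrict q V).flip

theorem IsHull.isIso_of_isAffineHom {q : P ⟶ Q} [IsAffineHom q] (hq : IsHull q) : IsIso q := by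
  refine IsZariskiLocalAtTarget.of_iSup_eq_top (P := MorphismProperty.isomorphisms Scheme.{u})
    (fun V : Q.affineOpens => (V : Q.Opens)) (iSup_affineOpens_eq_top Q) fun V => ?_
  haveI : IsAffine (V : Q.Opens) := V.2
  haveI : IsAffine (q ⁻¹ᵁ (V : Q.Opens)) := V.2.preimage q
  haveI : IsIso (q ∣_ (V : Q.Opens)).appTop := (hq.restrict _).appTop
  show IsIso _
  have e : q ∣_ (V : Q.Opens) = (q ⁻¹ᵁ (V : Q.Opens) : Scheme.{u}).isoSpec.hom ≫
      Spec.map (q ∣_ (V : Q.Opens)).appTop ≫ ((V : Q.Opens) : Scheme.{u}).isoSpec.inv := by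
    rw [← Category.assoc, Iso.eq_comp_inv, Scheme.isoSpec_hom_naturality]
  rw [e]
  infer_instance

/-- Morphisms to an affine target are determined after a hull map. -/
theorem ext_of_appTop {Z : Scheme.{u}} [IsAffine Z] (q : P ⟶ Q) [Mono q.appTop] {g g' : Q ⟶ Z}
    (h : q ≫ g = q ≫ g') : g = g' := by
  apply ext_of_isAffine
  rw [← cancel_mono q.appTop, ← Scheme.Hom.comp_appTop, ← Scheme.Hom.comp_appTop, h]

theorem exists_of_appTop {Z : Scheme.{u}} [IsAffine Z] (q : P ⟶ Q) [IsIso q.appTop] (f : P ⟶ Z) :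
    ∃ g : Q ⟶ Z, q ≫ g = f :=
  ⟨Q.toSpecΓ ≫ Spec.map (f.appTop ≫ inv q.appTop) ≫ Z.isoSpec.inv, by
    simp only [Scheme.toSpecΓ_naturality_assoc]
    rw [← Spec.map_comp_assoc, Category.assoc, IsIso.inv_hom_id, Category.comp_id,
      ← Scheme.toSpecΓ_naturality_assoc]
    simp [Scheme.isoSpec]⟩

variable {B Z : Scheme.{u}} (τ : Z ⟶ B) [IsAffineHom τ]

theorem IsHull.eq_of_comp {q : P ⟶ Q} [QuasiCompact q] [QuasiSeparated q] (hq : IsHull q)
    {g g' : Q ⟶ Z} (h₁ : g ≫ τ = g' ≫ τ) (h₂ : q ≫ g = q ≫ g') : g = g' := by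
  refine Scheme.Cover.hom_ext (Q.openCoverOfIsOpenCover (fun W : B.affineOpens => (g ≫ τ) ⁻¹ᵁ W)
    (.mk (by rw [← Scheme.Hom.preimage_iSup, iSup_affineOpens_eq_top, Scheme.Hom.preimage_top]))) _ _
    fun (W : B.affineOpens) => ?_
  show ((g ≫ τ) ⁻¹ᵁ (W : B.Opens)).ι ≫ g = ((g ≫ τ) ⁻¹ᵁ (W : B.Opens)).ι ≫ g'
  let V := (g ≫ τ) ⁻¹ᵁ (W : B.Opens)
  let V' := τ ⁻¹ᵁ (W : B.Opens)
  haveI : IsAffine V' := W.2.preimage τ
  have e : g ⁻¹ᵁ V' = V := rfl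
  have e' : g' ⁻¹ᵁ V' = V := by
    show g' ⁻¹ᵁ τ ⁻¹ᵁ (W : B.Opens) = (g ≫ τ) ⁻¹ᵁ (W : B.Opens)
    rw [← Scheme.Hom.comp_preimage, h₁]
  haveI := (hq.restrict V).appTop
  let a : (V : Scheme.{u}) ⟶ V' := IsOpenImmersion.lift V'.ι (V.ι ≫ g) (by
    rw [Scheme.Opens.range_ι, Scheme.Hom.comp_base, TopCat.coe_comp, Set.range_comp, Scheme.Opens.range_ι]
    exact Set.image_subset_iff.2 fun x hx => hx)
  let a' : (V : Scheme.{u}) ⟶ V' := IsOpenImmersion.lift V'.ι (V.ι ≫ g') (by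
    rw [Scheme.Opens.range_ι, Scheme.Hom.comp_base, TopCat.coe_comp, Set.range_comp, Scheme.Opens.range_ι]
    exact Set.image_subset_iff.2 fun x hx => (e'.ge hx : _))
  have ha : a ≫ V'.ι = V.ι ≫ g := IsOpenImmersion.lift_fac _ _ _
  have ha' : a' ≫ V'.ι = V.ι ≫ g' := IsOpenImmersion.lift_fac _ _ _
  have : a = a' := by
    apply ext_of_appTop (q ∣_ V)
    rw [← cancel_mono V'.ι, Category.assoc, Category.assoc, ha, ha', morphismRestrict_ι_assoc,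
      morphismRestrict_ι_assoc, h₂]
  rw [← ha, ← ha', this]

theorem IsHull.exists_factor {q : P ⟶ Q} [QuasiCompact q] [QuasiSeparated q] (hq : IsHull q)
    (f : P ⟶ Z) (b : Q ⟶ B) (h : f ≫ τ = q ≫ b) : ∃ g : Q ⟶ Z, g ≫ τ = b ∧ q ≫ g = f := by
  let 𝒰 := Q.openCoverOfIsOpenCover (fun W : B.affineOpens => b ⁻¹ᵁ W)
    (.mk (by rw [← Scheme.Hom.preimage_iSup, iSup_affineOpens_eq_top, Scheme.Hom.preimage_top]))
  have loc : ∀ W : B.affineOpens, ∃ g : ((b ⁻¹ᵁ (W : B.Opens)) : Scheme.{u}) ⟶ Z,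
      g ≫ τ = (b ⁻¹ᵁ (W : B.Opens)).ι ≫ b ∧
      (q ∣_ (b ⁻¹ᵁ (W : B.Opens))) ≫ g = (q ⁻¹ᵁ (b ⁻¹ᵁ (W : B.Opens))).ι ≫ f := by
    intro W
    let V := b ⁻¹ᵁ (W : B.Opens)
    let V' := τ ⁻¹ᵁ (W : B.Opens)
    haveI : IsAffine (W : B.Opens) := W.2
    haveI : IsAffine V' := W.2.preimage τ
    haveI := (hq.restrict V).appTop
    let f₀ : ((q ⁻¹ᵁ V) : Scheme.{u}) ⟶ V' := IsOpenImmersion.lift V'.ι ((q ⁻¹ᵁ V).ι ≫ f) (by
      rw [Scheme.Opens.range_ι, Scheme.Hom.comp_base, TopCat.coe_comp, Set.range_comp, Scheme.Opens.range_ι]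
      refine Set.image_subset_iff.2 fun x hx => ?_
      show (f ≫ τ) x ∈ (W : B.Opens)
      rw [h]; exact hx)
    have hf₀ : f₀ ≫ V'.ι = (q ⁻¹ᵁ V).ι ≫ f := IsOpenImmersion.lift_fac _ _ _
    obtain ⟨g₀, hg₀⟩ := exists_of_appTop (q ∣_ V) f₀
    refine ⟨g₀ ≫ V'.ι, ?_, by rw [reassoc_of% hg₀, hf₀]⟩
    have hb : g₀ ≫ (τ ∣_ (W : B.Opens)) = b ∣_ (W : B.Opens) := by
      apply ext_of_appTop (q ∣_ V)
      rw [reassoc_of% hg₀, ← cancel_mono (W : B.Opens).ι, Category.assoc, Category.assoc,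
        morphismRestrict_ι, morphismRestrict_ι, reassoc_of% hf₀, morphismRestrict_ι_assoc, h]
    rw [Category.assoc, ← morphismRestrict_ι, reassoc_of% hb, morphismRestrict_ι]
  choose g hg₁ hg₂ using loc
  let G : Q ⟶ Z := 𝒰.glueMorphisms g (fun (W W' : B.affineOpens) => by
    let p₁ := pullback.fst (b ⁻¹ᵁ (W : B.Opens)).ι (b ⁻¹ᵁ (W' : B.Opens)).ι
    let p₂ := pullback.snd (b ⁻¹ᵁ (W : B.Opens)).ι (b ⁻¹ᵁ (W' : B.Opens)).ι
    have hp : p₁ ≫ (b ⁻¹ᵁ (W : B.Opens)).ι = p₂ ≫ (b ⁻¹ᵁ (W' : B.Opens)).ι := pullback.condition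
    show p₁ ≫ g W = p₂ ≫ g W'
    let r := p₁ ≫ (b ⁻¹ᵁ (W : B.Opens)).ι
    refine (hq.of_isPullback (IsPullback.of_hasPullback q r)).eq_of_comp τ ?_ ?_
    · rw [Category.assoc, Category.assoc, hg₁, hg₁, reassoc_of% hp]
    · let s₁ : pullback q r ⟶ (q ⁻¹ᵁ (b ⁻¹ᵁ (W : B.Opens))) :=
        (isPullback_morphismRestrict q _).lift (pullback.snd q r ≫ p₁) (pullback.fst q r)
          (by rw [Category.assoc]; exact pullback.condition.symm)
      let s₂ : pullback q r ⟶ (q ⁻¹ᵁ (b ⁻¹ᵁ (W' : B.Opens))) :=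
        (isPullback_morphismRestrict q _).lift (pullback.snd q r ≫ p₂) (pullback.fst q r)
          (by rw [Category.assoc, ← hp]; exact pullback.condition.symm)
      rw [← reassoc_of% ((isPullback_morphismRestrict q _).lift_fst _ _ _ : s₁ ≫ _ = _), hg₂,
        ← reassoc_of% ((isPullback_morphismRestrict q _).lift_fst _ _ _ : s₂ ≫ _ = _), hg₂,
        reassoc_of% ((isPullback_morphismRestrict q _).lift_snd _ _ _ : s₁ ≫ _ = _),
        reassoc_of% ((isPullback_morphismRestrict q _).lift_snd _ _ _ : s₂ ≫ _ = _)])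
  have hG : ∀ W : B.affineOpens, (b ⁻¹ᵁ (W : B.Opens)).ι ≫ G = g W := fun W => 𝒰.ι_glueMorphisms g _ W
  refine ⟨G, ?_, ?_⟩
  · refine Scheme.Cover.hom_ext 𝒰 _ _ fun (W : B.affineOpens) => ?_
    show (b ⁻¹ᵁ (W : B.Opens)).ι ≫ G ≫ τ = (b ⁻¹ᵁ (W : B.Opens)).ι ≫ b
    rw [reassoc_of% (hG W), hg₁]
  · refine Scheme.Cover.hom_ext (P.openCoverOfIsOpenCover (fun W : B.affineOpens => q ⁻¹ᵁ (b ⁻¹ᵁ W))
      (.mk (by simp_rw [← Scheme.Hom.comp_preimage]; rw [← Scheme.Hom.preimage_iSup, iSup_affineOpens_eq_top,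
        Scheme.Hom.preimage_top]))) _ _ fun (W : B.affineOpens) => ?_
    show (q ⁻¹ᵁ (b ⁻¹ᵁ (W : B.Opens))).ι ≫ q ≫ G = (q ⁻¹ᵁ (b ⁻¹ᵁ (W : B.Opens))).ι ≫ f
    rw [← morphismRestrict_ι_assoc, hG, hg₂]

set_option backward.isDefEq.respectTransparency false in
/-- Existence of the relative affine hull. -/
theorem exists_relHull {X S : Scheme.{u}} (u : X ⟶ S) [QuasiCompact u] [QuasiSeparated u] :
    ∃ (H : Scheme.{u}) (π : H ⟶ S) (ρ : X ⟶ H), IsAffineHom π ∧ ρ ≫ π = u ∧ QuasiCompact ρ ∧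
      QuasiSeparated ρ ∧ IsHull ρ := by
  let A := RelSpec.QCAlg.directImage u
  obtain ⟨⟨c, e⟩, hc⟩ := (Groth.Agent.RelSpecUP.toAlg_bijective A u).2 ⟨𝟙 _, Category.comp_id _⟩
  have hc' : inv A.gammaMap ≫ AffAlg.algHom A.π u c e = 𝟙 _ := congrArg Subtype.val hc
  have hcan : A.gammaMap = AffAlg.algHom A.π u c e := by
    rw [IsIso.inv_comp_eq, Category.comp_id] at hc'
    exact hc'.symm
  haveI : QuasiCompact c := by
    haveI : QuasiCompact (c ≫ A.π) := by rw [e]; infer_instance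
    exact QuasiCompact.of_comp c A.π
  haveI : QuasiSeparated c := by
    haveI : QuasiSeparated (c ≫ A.π) := by rw [e]; infer_instance
    exact QuasiSeparated.of_comp c A.π
  refine ⟨A.spec, A.π, c, inferInstance, e, inferInstance, inferInstance,
    isHull_of_affines c (fun W : S.affineOpens => A.π ⁻¹ᵁ W) (fun W => W.2.preimage _) (fun x => ?_)
      fun W => ?_⟩
  · exact Opens.mem_iSup.1 (show x ∈ ⨆ W : S.affineOpens, A.π ⁻¹ᵁ (W : S.Opens) by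
      rw [← Scheme.Hom.preimage_iSup, iSup_affineOpens_eq_top, Scheme.Hom.preimage_top]; trivial)
  · have h1 : (AffAlg.algHom A.π u c e).app (op (W : S.Opens)) = A.gammaMap.app (op (W : S.Opens)) := by rw [hcan]
    rw [Groth.Agent.RelSpecUP.algHom_app] at h1
    haveI : IsIso (A.gammaMap.app (op (W : S.Opens))) := ((asIso A.gammaMap).app (op (W : S.Opens))).isIso_hom
    have heq : u ⁻¹ᵁ (W : S.Opens) = c ⁻¹ᵁ (A.π ⁻¹ᵁ (W : S.Opens)) := by rw [← Scheme.Hom.comp_preimage, e]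
    rw [Scheme.Hom.app_eq_appLE, ← c.appLE_map (by rw [heq]) (eqToHom heq.symm).op, h1]
    exact (asIso (A.gammaMap.app (op (W : S.Opens))) ≪≫ X.presheaf.mapIso (eqToIso heq.symm).op).isIso_hom

end Groth.Agent.RelHull
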