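import Groth.Agent.HullDed.Main
import Groth.Agent.RelHull.Basic

/-!
# Fibres over a Dedekind domain: flatness and schematic dominance
-/

universe u

open CategoryTheory CategoryTheory.Limits AlgebraicGeometry
open TensorProduct Opposite

namespace Groth.Agent.RelHull

open HullDed

variable {R : CommRingCat.{u}} [IsDedekindDomain R]

section

variable {X Y : Over (Spec R)} (f : X ⟶ Y) [Flat X.hom] [Flat Y.hom]
  (h : ∀ s, Flat (GrpField.fibHom f s).left)

include h

/-- flatness after base change to a field-valued point -/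
theorem flat_tensor (k : Type u) [Field k] [Algebra R k] {A M : CommRingCat.{u}} (k' : Spec A ⟶ Y.left) [IsOpenImmersion k']
    (σ : R ⟶ A) (hσ : k' ≫ Y.hom = Spec.map σ) (j : Spec M ⟶ X.left)
    [Flat j] (φ : A ⟶ M) (hφ : Spec.map φ ≫ k' = j ≫ f.left) :
    letI := σ.hom.toAlgebra
    letI := φ.hom.toAlgebra
    Module.Flat (A ⊗[R] k) ((A ⊗[R] k) ⊗[A] M) := by
  letI := σ.hom.toAlgebra
  letI := φ.hom.toAlgebra
  let K : CommRingCat := CommRingCat.of k
  let b : Spec K ⟶ Spec R := Spec.map (CommRingCat.ofHom (algebraMap R k))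
  let s : Spec R := b (IsLocalRing.closedPoint k)
  let T : CommRingCat := CommRingCat.of (A ⊗[R] k)
  let inl : A ⟶ T := CommRingCat.ofHom (algebraMap A (A ⊗[R] k))
  let inr : K ⟶ T := CommRingCat.ofHom Algebra.TensorProduct.includeRight.toRingHom
  let d : Spec K ⟶ Spec ((Spec R).residueField s) :=
    Spec.map ((Spec R).descResidueField (Scheme.stalkClosedPointTo b))
  have hd : d ≫ (Spec R).fromSpecResidueField s = b :=
    Scheme.descResidueField_stalkClosedPointTo_fromSpecResidueField k (Spec R) b
  have hw : (Spec.map inl ≫ k') ≫ Y.hom = (Spec.map inr ≫ d) ≫ (Spec R).fromSpecResidueField s := by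
    rw [Category.assoc, Category.assoc, hd, hσ]
    show Spec.map inl ≫ Spec.map σ = Spec.map inr ≫ Spec.map (CommRingCat.ofHom (algebraMap R k))
    rw [← Spec.map_comp, ← Spec.map_comp]
    exact congrArg Spec.map (CommRingCat.isPushout_tensorProduct R A k).w
  let q := pullback.fst Y.hom ((Spec R).fromSpecResidueField s)
  let w : Spec T ⟶ pullback Y.hom ((Spec R).fromSpecResidueField s) := pullback.lift _ _ hw
  have hwq : w ≫ q = Spec.map inl ≫ k' := pullback.lift_fst _ _ _
  have h1 : Flat (pullback.snd f.left q) := by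
    have e := GrpField.isPullback_fibHom f s
    have : Flat (GrpField.fibHom f s).left := h s
    rw [← e.isoPullback_inv_snd]
    infer_instance
  have h2 : Flat (pullback.snd f.left (Spec.map inl ≫ k')) := by
    rw [← hwq, ← pullbackLeftPullbackSndIso_inv_snd_snd]
    infer_instance
  have h3 : Flat (pullback.snd (j ≫ f.left) (Spec.map inl ≫ k')) := by
    rw [← pullbackRightPullbackFstIso_inv_snd_snd]
    infer_instance
  have h4 : Flat (pullback.snd (Spec.map (CommRingCat.ofHom (algebraMap A M))) (Spec.map inl)) := by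
    let a := Spec.map (CommRingCat.ofHom (algebraMap A M))
    let φ' := pullback.mapDesc a (Spec.map inl) k'
    haveI : IsIso φ' := ⟨pullback.lift (pullback.fst _ _) (pullback.snd _ _) (by
        rw [← cancel_mono k', Category.assoc, Category.assoc, pullback.condition]),
      by
        apply pullback.hom_ext
        · simp only [φ', pullback.mapDesc, pullback.map, Category.assoc, Category.id_comp]
          erw [pullback.lift_fst, pullback.lift_fst]; exact Category.comp_id _
        · simp only [φ', pullback.mapDesc, pullback.map, Category.assoc, Category.id_comp]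
          erw [pullback.lift_snd, pullback.lift_snd]; exact Category.comp_id _,
      by
        apply pullback.hom_ext
        · simp only [φ', pullback.mapDesc, pullback.map, Category.assoc, Category.id_comp]
          erw [pullback.lift_fst]; erw [pullback.lift_fst_assoc, Category.comp_id]
        · simp only [φ', pullback.mapDesc, pullback.map, Category.assoc, Category.id_comp]
          erw [pullback.lift_snd]; erw [pullback.lift_snd_assoc, Category.comp_id]⟩
    have e : φ' ≫ pullback.snd (a ≫ k') (Spec.map inl ≫ k') = pullback.snd a (Spec.map inl) :=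
      (pullback.lift_snd _ _ _).trans (Category.comp_id _)
    haveI : Flat (pullback.snd (a ≫ k') (Spec.map inl ≫ k')) := by
      have ha : a ≫ k' = j ≫ f.left := hφ
      rw [ha]; exact h3
    show Flat (pullback.snd a (Spec.map inl))
    rw [← e]
    infer_instance
  have h5 : Flat (Spec.map (CommRingCat.ofHom
      (R := (A ⊗[R] k)) (S := M ⊗[A] (A ⊗[R] k)) (RingHomClass.toRingHom
      (Algebra.TensorProduct.includeRight : (A ⊗[R] k) →ₐ[A] M ⊗[A] (A ⊗[R] k))))) := by
    rw [← pullbackSpecIso_inv_snd]
    exact MorphismProperty.comp_mem _ _ _ inferInstance h4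
  have h6 := (HasRingHomProperty.Spec_iff (P := @Flat)).1 h5
  have h7 := h6.comp (RingHom.Flat.of_bijective
    (f := (Algebra.TensorProduct.comm A M (A ⊗[R] k)).toRingEquiv.toRingHom)
    (Algebra.TensorProduct.comm A M (A ⊗[R] k)).bijective)
  rw [← RingHom.flat_algebraMap_iff]
  have e : algebraMap (A ⊗[R] k) ((A ⊗[R] k) ⊗[A] M) =
      (Algebra.TensorProduct.comm A M (A ⊗[R] k)).toRingEquiv.toRingHom.comp
        (Algebra.TensorProduct.includeRight : (A ⊗[R] k) →ₐ[A] M ⊗[A] (A ⊗[R] k)).toRingHom := rfl
  rw [e]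
  exact h7

theorem flat_chart {A M : CommRingCat.{u}} (k' : Spec A ⟶ Y.left) [IsOpenImmersion k']
    (σ : R ⟶ A) (hσ : k' ≫ Y.hom = Spec.map σ) (j : Spec M ⟶ X.left) (hj : Flat j) (φ : A ⟶ M)
    (hφ : Spec.map φ ≫ k' = j ≫ f.left) : φ.hom.Flat := by
  haveI := hj
  letI := σ.hom.toAlgebra
  letI := φ.hom.toAlgebra
  letI : Algebra R M := (σ ≫ φ).hom.toAlgebra
  haveI : IsScalarTower R A M := IsScalarTower.of_algebraMap_eq fun _ => rfl
  haveI : Module.Flat R A := by
    have h : Flat (Spec.map σ) := by rw [← hσ]; infer_instance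
    exact (HasRingHomProperty.Spec_iff (P := @Flat)).1 h
  haveI : Module.Flat R M := by
    have h : Flat (Spec.map (σ ≫ φ)) := by
      rw [Spec.map_comp, ← hσ, reassoc_of% hφ, Over.w f]; infer_instance
    exact (HasRingHomProperty.Spec_iff (P := @Flat)).1 h
  haveI : Module.IsTorsionFree R A := isTorsionFree_of_flat
  haveI : Module.IsTorsionFree R M := isTorsionFree_of_flat
  change Module.Flat A M
  let K := FractionRing R
  let T := A ⊗[R] K
  haveI : Module.Flat T (T ⊗[A] M) := flat_tensor f h K k' σ hσ j φ hφ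
  haveI : Module.Flat R K := IsLocalization.flat K (nonZeroDivisors R)
  haveI : Module.Flat A T := inferInstanceAs (Module.Flat A (A ⊗[R] K))
  haveI : Module.Flat A (T ⊗[A] M) := Module.Flat.trans A T _
  let e : T ⊗[A] M ≃ₗ[A] M ⊗[R] K :=
    (TensorProduct.comm A T M).trans (TensorProduct.AlgebraTensorModule.cancelBaseChange R A A M K)
  have he : ∀ m : M, e ((1 : T) ⊗ₜ[A] m) = m ⊗ₜ[R] 1 := fun m => by
    show TensorProduct.AlgebraTensorModule.cancelBaseChange R A A M K (m ⊗ₜ[A] ((1 : A) ⊗ₜ[R] (1 : K))) = _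
    rw [TensorProduct.AlgebraTensorModule.cancelBaseChange_tmul, one_smul]
  let inc : M →ₗ[A] T ⊗[A] M := TensorProduct.mk A T M 1
  have hinj : Function.Injective inc := by
    intro m m' h
    have h1 := congrArg e h
    change e ((1 : T) ⊗ₜ[A] m) = e ((1 : T) ⊗ₜ[A] m') at h1
    rw [he, he] at h1
    have hK : Function.Injective ((Algebra.linearMap R K).lTensor M) :=
      Module.Flat.lTensor_preserves_injective_linearMap _ (IsFractionRing.injective R K)
    apply (TensorProduct.rid R M).symm.injective
    apply hK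
    simpa using h1
  have hden : ∀ v : T ⊗[A] M, ∃ r : R, r ≠ 0 ∧ ∃ m, r • v = inc m := by
    intro v
    suffices ∀ w : M ⊗[R] K, ∃ r : R, r ≠ 0 ∧ ∃ m : M, r • w = m ⊗ₜ[R] 1 by
      obtain ⟨r, hr, m, hm⟩ := this (e v)
      refine ⟨r, hr, m, e.injective ?_⟩
      exact (LinearMap.map_smul_of_tower e.toLinearMap r v).trans (hm.trans (he m).symm)
    intro w
    induction w using TensorProduct.induction_on with
    | zero => exact ⟨1, one_ne_zero, 0, by simp⟩
    | tmul m y =>
      obtain ⟨a, b, hb, rfl⟩ := IsFractionRing.div_surjective (A := R) y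
      refine ⟨b, nonZeroDivisors.ne_zero hb, a • m, ?_⟩
      rw [← TensorProduct.tmul_smul, TensorProduct.smul_tmul, Algebra.smul_def, Algebra.smul_def,
        mul_div_cancel₀ _ (IsFractionRing.to_map_ne_zero_of_mem_nonZeroDivisors hb), _root_.mul_one]
    | add w₁ w₂ h₁ h₂ =>
      obtain ⟨r₁, hr₁, m₁, h₁⟩ := h₁
      obtain ⟨r₂, hr₂, m₂, h₂⟩ := h₂
      refine ⟨r₁ * r₂, mul_ne_zero hr₁ hr₂, r₂ • m₁ + r₁ • m₂, ?_⟩
      rw [smul_add, TensorProduct.add_tmul, ← TensorProduct.smul_tmul' r₂ m₁, ← TensorProduct.smul_tmul' r₁ m₂,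
        ← h₁, ← h₂, mul_comm r₁ r₂, mul_smul, mul_smul, smul_comm r₁ r₂ w₂]
  refine flat_of_fibres (R := R) (N := T ⊗[A] M) inc hinj hden fun p hp hp0 => ?_
  letI := Ideal.Quotient.field p
  let B := A ⧸ p.map (algebraMap R A)
  let T' := A ⊗[R] (R ⧸ p)
  haveI : Module.Flat T' (T' ⊗[A] M) := flat_tensor f h (R ⧸ p) k' σ hσ j φ hφ
  let l : R ⧸ p →ₐ[R] B := Ideal.quotientMapₐ (p.map (algebraMap R A)) (Algebra.ofId R A) Ideal.le_comap_map
  let ψ : T' →ₐ[A] B := Algebra.TensorProduct.lift (Algebra.ofId A B) l fun _ _ => Commute.all _ _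
  letI := ψ.toRingHom.toAlgebra
  haveI : IsScalarTower A T' B := IsScalarTower.of_algebraMap_eq fun x => (ψ.commutes x).symm
  exact Module.Flat.of_linearEquiv
    (TensorProduct.AlgebraTensorModule.cancelBaseChange A T' B B M).symm

/-- **Fibrewise criterion of flatness, without finiteness.** -/
theorem flat_of_fibHom : Flat f.left := by
  refine ⟨fun {U} hU {V} hV e => ?_⟩
  exact flat_chart f h hU.fromSpec (strOpen Y.hom U) (fromSpec_comp Y.hom hU) hV.fromSpec inferInstance
    (f.left.appLE U V e) (hU.SpecMap_appLE_fromSpec f.left hV e)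

end

variable {G X : Scheme.{u}} (r : G ⟶ X) (hX : X ⟶ Spec R)

/-- the target of a hull map from a flat scheme is flat -/
theorem flat_of_isHull [Flat (r ≫ hX)] (hr : IsHull r) : Flat hX := by
  refine IsZariskiLocalAtSource.of_openCover (P := @Flat) X.affineCover fun i => ?_
  haveI := X.affineCover.map_prop i
  have hV := isAffineOpen_opensRange (X.affineCover.f i)
  have key : ∀ V : X.Opens, IsAffineOpen V → (strOpen hX V).hom.Flat := by
    intro V hV
    letI := (strOpen hX V).hom.toAlgebra
    have hcomp : strOpen hX V ≫ r.app V = strOpen (r ≫ hX) (r ⁻¹ᵁ V) := by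
      rw [strOpen, strOpen, str_comp, Category.assoc, Category.assoc]
      congr 1
      exact r.naturality (homOfLE le_top).op
    have : Module.IsTorsionFree R Γ(X, V) := by
      refine Module.IsTorsionFree.of_smul_eq_zero fun a g h => ?_
      by_cases ha : a = 0
      · exact Or.inl ha
      haveI := hr V
      refine Or.inr ((ConcreteCategory.bijective_of_isIso (r.app V)).1 ?_)
      rw [map_zero]
      refine eq_zero_of_mul (r ≫ hX) _ ha _ ?_
      rw [← hcomp, CommRingCat.comp_apply, ← map_mul]
      rw [Algebra.smul_def] at h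
      exact (congrArg (r.app V) h).trans (map_zero _)
    exact IsDedekindDomain.flat_iff_torsion_eq_bot.2 (Submodule.isTorsionFree_iff_torsion_eq_bot.1 this)
  have h : Flat (hV.fromSpec ≫ hX) := by
    rw [fromSpec_comp hX hV]; exact (HasRingHomProperty.Spec_iff (P := @Flat)).2 (key _ hV)
  let e := IsOpenImmersion.isoOfRangeEq (X.affineCover.f i) hV.fromSpec (by simp)
  rw [← IsOpenImmersion.isoOfRangeEq_hom_fac (X.affineCover.f i) hV.fromSpec (by simp), Category.assoc]
  infer_instance

end Groth.Agent.RelHull
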