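import Groth.Agent.RelHull.Field
import Groth.Agent.RelHull.FibFlat
import Groth.Agent.HullDed.FinType

/-!
# A separated homomorphism with affine generic kernel from a flat group over a Dedekind domain is affine
-/

universe u

open CategoryTheory CategoryTheory.Limits MonoidalCategory CartesianMonoidalCategory MonObj GrpObj AlgebraicGeometry

namespace Groth.Agent.RelHull

open HullDed

variable {R : CommRingCat.{u}} [IsDedekindDomain R]

theorem injective_fibre {X : Scheme.{u}} (f : X ⟶ Spec R) [Flat f] [QuasiCompact f] [QuasiSeparated f]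
    (s : Spec R) {P Q : Scheme.{u}} {p₁ : P ⟶ X} {p₂ : P ⟶ Spec ((Spec R).residueField s)}
    (HP : IsPullback p₁ p₂ f ((Spec R).fromSpecResidueField s))
    {q₁ : Q ⟶ Spec Γ(X, ⊤)} {q₂ : Q ⟶ Spec ((Spec R).residueField s)}
    (HQ : IsPullback q₁ q₂ (Spec.map (str f)) ((Spec R).fromSpecResidueField s))
    (m : P ⟶ Q) (h₁ : m ≫ q₁ = p₁ ≫ X.toSpecΓ) (h₂ : m ≫ q₂ = p₂) : Function.Injective m.appTop := by
  let b := (Spec R).fromSpecResidueField s
  let m₀ := pullback.map f b (Spec.map (str f)) b X.toSpecΓ (𝟙 _) (𝟙 _)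
    ((Category.comp_id f).trans (toSpecΓ_str f).symm) (by simp)
  have e : m = HP.isoPullback.hom ≫ m₀ ≫ HQ.isoPullback.inv := by
    rw [← Category.assoc, Iso.eq_comp_inv]
    apply pullback.hom_ext
    · rw [Category.assoc, Category.assoc]
      erw [HQ.isoPullback_hom_fst, h₁, pullback.lift_fst]
      rw [← Category.assoc]
      erw [HP.isoPullback_hom_fst]
    · rw [Category.assoc, Category.assoc]
      erw [HQ.isoPullback_hom_snd, h₂, pullback.lift_snd, Category.comp_id, HP.isoPullback_hom_snd]
  haveI : IsSchemeTheoreticallyDominant m₀ :=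
    (isSchemeTheoreticallyDominant_iff _).2 (ker_pullback_map_eq_bot f s)
  haveI : IsAffine (pullback (Spec.map (str f)) b) := inferInstance
  haveI : IsAffineHom (pullback.snd (Spec.map (str f)) b) := inferInstance
  haveI : QuasiCompact m₀ := by
    haveI : QuasiCompact (m₀ ≫ pullback.snd (Spec.map (str f)) b) := by
      rw [show m₀ ≫ pullback.snd (Spec.map (str f)) b = pullback.snd f b from
        (pullback.lift_snd _ _ _).trans (Category.comp_id _)]
      infer_instance
    exact QuasiCompact.of_comp m₀ (pullback.snd (Spec.map (str f)) b)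
  haveI : IsSchemeTheoreticallyDominant m := by rw [e]; infer_instance
  haveI : QuasiCompact m := by rw [e]; infer_instance
  exact m.app_injective ⊤

theorem ker_fibHom_eq_bot {G X : Over (Spec R)} (r : G ⟶ X) [Flat G.hom] [QuasiCompact r.left]
    [QuasiSeparated r.left] (hr : IsHull r.left) (s : Spec R) :
    (GrpField.fibHom r s).left.ker = ⊥ := by
  let b := (Spec R).fromSpecResidueField s
  haveI : IsAffineHom b := isAffineHom_of_isAffine b
  let rs := (GrpField.fibHom r s).left
  let p := pullback.fst G.hom b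
  let q := pullback.fst X.hom b
  haveI : IsAffineHom q := MorphismProperty.pullback_fst (P := @IsAffineHom) X.hom b inferInstance
  have hw : rs ≫ q = p ≫ r.left := GrpField.fibHom_fst r s
  have hsnd : rs ≫ pullback.snd X.hom b = pullback.snd G.hom b := Over.w (GrpField.fibHom r s)
  haveI : QuasiCompact rs := MorphismProperty.of_isPullback (GrpField.isPullback_fibHom r s) ‹QuasiCompact r.left›
  refine Scheme.IdealSheafData.ext_of_iSup_eq_top
    (fun V : X.left.affineOpens => ⟨q ⁻¹ᵁ (V : X.left.Opens), V.2.preimage q⟩)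
    (by rw [← Scheme.Hom.preimage_iSup, iSup_affineOpens_eq_top, Scheme.Hom.preimage_top]) fun V => ?_
  simp only [Scheme.Hom.ker_apply, Scheme.IdealSheafData.ideal_bot, Pi.bot_apply]
  refine (RingHom.injective_iff_ker_eq_bot _).1 ?_
  let Q := q ⁻¹ᵁ (V : X.left.Opens)
  let W := r.left ⁻¹ᵁ (V : X.left.Opens)
  haveI : IsAffine (V : X.left.Opens) := V.2
  let f := W.ι ≫ G.hom
  have hf : f = (r.left ∣_ (V : X.left.Opens)) ≫ (V : X.left.Opens).ι ≫ X.hom := by
    rw [morphismRestrict_ι_assoc, Over.w r]
  haveI : IsAffineHom ((V : X.left.Opens).ι ≫ X.hom) := isAffineHom_of_isAffine _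
  haveI : QuasiCompact f := by rw [hf]; infer_instance
  haveI : QuasiSeparated f := by rw [hf]; infer_instance
  haveI : Flat f := inferInstanceAs (Flat (W.ι ≫ G.hom))
  haveI : CompactSpace (W : Scheme.{u}) := QuasiCompact.compactSpace_of_compactSpace f
  haveI : QuasiSeparatedSpace (W : Scheme.{u}) := quasiSeparatedSpace_of_quasiSeparated f
  haveI : IsIso (r.left ∣_ (V : X.left.Opens)).appTop := (hr.restrict _).appTop
  let e : Spec Γ(W, ⊤) ⟶ (V : X.left.Opens) :=
    Spec.map (r.left ∣_ (V : X.left.Opens)).appTop ≫ ((V : X.left.Opens) : Scheme.{u}).isoSpec.inv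
  have he : (W : Scheme.{u}).toSpecΓ ≫ e = r.left ∣_ (V : X.left.Opens) := by
    simp only [e, ← Scheme.toSpecΓ_naturality_assoc]
    simp [Scheme.isoSpec]
  have he' : e ≫ (V : X.left.Opens).ι ≫ X.hom = Spec.map (str f) :=
    HullDed.ext_of_toSpecΓ (by rw [reassoc_of% he, morphismRestrict_ι_assoc, Over.w r, toSpecΓ_str])
  have HP : IsPullback (p ∣_ W) ((p ⁻¹ᵁ W).ι ≫ pullback.snd G.hom b) f b :=
    (isPullback_morphismRestrict p W).paste_vert (IsPullback.of_hasPullback G.hom b)
  have HQ' : IsPullback (q ∣_ (V : X.left.Opens)) (Q.ι ≫ pullback.snd X.hom b)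
      ((V : X.left.Opens).ι ≫ X.hom) b :=
    (isPullback_morphismRestrict q (V : X.left.Opens)).paste_vert (IsPullback.of_hasPullback X.hom b)
  have HQ : IsPullback ((q ∣_ (V : X.left.Opens)) ≫ inv e) (Q.ι ≫ pullback.snd X.hom b) (Spec.map (str f)) b :=
    HQ'.of_iso (Iso.refl _) (asIso e).symm (Iso.refl _) (Iso.refl _) (by simp) (by simp) (by simp [← he']) (by simp)
  have hP : p ⁻¹ᵁ W = rs ⁻¹ᵁ Q := by
    show p ⁻¹ᵁ r.left ⁻¹ᵁ (V : X.left.Opens) = rs ⁻¹ᵁ q ⁻¹ᵁ (V : X.left.Opens)
    rw [← Scheme.Hom.comp_preimage, ← Scheme.Hom.comp_preimage, hw]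
  let m : ((p ⁻¹ᵁ W : _) : Scheme.{u}) ⟶ Q := (Scheme.isoOfEq _ hP).hom ≫ (rs ∣_ Q)
  have hm₁ : m ≫ (q ∣_ (V : X.left.Opens)) ≫ inv e = (p ∣_ W) ≫ (W : Scheme.{u}).toSpecΓ := by
    rw [← Category.assoc, IsIso.comp_inv_eq, ← cancel_mono (V : X.left.Opens).ι]
    simp only [Category.assoc, reassoc_of% he, morphismRestrict_ι, morphismRestrict_ι_assoc]
    simp only [m, Category.assoc]
    erw [morphismRestrict_ι_assoc rs Q q, hw, Scheme.isoOfEq_hom_ι_assoc, morphismRestrict_ι_assoc p W r.left]
    try rfl
  have hm₂ : m ≫ Q.ι ≫ pullback.snd X.hom b = (p ⁻¹ᵁ W).ι ≫ pullback.snd G.hom b := by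
    simp only [m, Category.assoc, morphismRestrict_ι_assoc, hsnd]
    erw [Scheme.isoOfEq_hom_ι_assoc]
  have h := injective_fibre f s HP HQ m hm₁ hm₂
  simp only [m, Scheme.Hom.comp_appTop, morphismRestrict_appTop, CommRingCat.hom_comp, RingHom.coe_comp] at h
  have h1 := Function.Injective.of_comp h
  have h' : Function.Injective (rs.app (Q.ι ''ᵁ ⊤)) := fun x y e =>
    h1 (congrArg ((GrpField.fib G s).left.presheaf.map _) e)
  intro x y hxy
  have hQ : Q.ι ''ᵁ ⊤ = Q := Scheme.Opens.ι_image_top Q
  revert h'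
  rw [hQ]
  intro h'
  exact h' hxy

/-- **The main statement over an affine base.** -/
theorem isAffineHom_of_generic (G H : Over (Spec R)) [GrpObj G] [GrpObj H]
    [LocallyOfFiniteType G.hom] [QuasiCompact G.hom] [LocallyOfFiniteType H.hom]
    [Flat G.hom] (u : G ⟶ H) [IsMonHom u] [IsSeparated u.left]
    {K : Scheme.{u}} (b : K ⟶ Spec R) [IsSchemeTheoreticallyDominant b] [QuasiCompact b] [Flat b]
    (hgen : IsAffineHom (pullback.snd u.left (pullback.fst H.hom b))) : IsAffineHom u.left := by
  haveI : IsLocallyNoetherian H.left := LocallyOfFiniteType.isLocallyNoetherian H.hom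
  haveI : QuasiCompact u.left := by
    haveI : QuasiCompact (u.left ≫ H.hom) := by rw [Over.w u]; infer_instance
    exact QuasiCompact.of_comp u.left H.hom
  obtain ⟨X₀, π, r₀, hπ, hr₀, hqc, hqs, hhull⟩ := exists_relHull u.left
  let X : Over (Spec R) := Over.mk (π ≫ H.hom)
  let r : G ⟶ X := Over.homMk r₀ (by
    show r₀ ≫ π ≫ H.hom = G.hom
    rw [reassoc_of% hr₀, Over.w u])
  let p : X ⟶ H := Over.homMk π
  have hrp : r ≫ p = u := by ext1; exact hr₀
  haveI : IsAffineHom p.left := hπ
  haveI : QuasiCompact r.left := hqc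
  haveI : QuasiSeparated r.left := hqs
  have hh : IsHull r.left := hhull
  haveI : Flat (r.left ≫ X.hom) := by rw [Over.w r]; infer_instance
  haveI : Flat X.hom := flat_of_isHull r.left X.hom hh
  haveI : IsMonHom (r ≫ p) := by rw [hrp]; infer_instance
  obtain ⟨hX, hr', hp'⟩ := exists_grpObj r p ⟨hqc, hqs, hh⟩
  -- the fibres
  have hfib : ∀ s, Flat (GrpField.fibHom r s).left ∧ Surjective (GrpField.fibHom r s).left := by
    intro s
    letI : GrpObj (GrpField.fib G s) := GrpField.fibGrp G s
    letI : GrpObj (GrpField.fib X s) := GrpField.fibGrp X s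
    letI : GrpObj (GrpField.fib H s) := GrpField.fibGrp H s
    haveI : QuasiCompact (GrpField.fibHom r s).left :=
      MorphismProperty.of_isPullback (GrpField.isPullback_fibHom r s) hqc
    haveI : IsAffineHom (GrpField.fibHom p s).left :=
      MorphismProperty.of_isPullback (GrpField.isPullback_fibHom p s) hπ
    haveI : LocallyOfFiniteType (GrpField.fib G s).hom :=
      inferInstanceAs (LocallyOfFiniteType (pullback.snd G.hom _))
    haveI : QuasiCompact (GrpField.fib G s).hom :=
      inferInstanceAs (QuasiCompact (pullback.snd G.hom _))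
    haveI : LocallyOfFiniteType (GrpField.fib H s).hom :=
      inferInstanceAs (LocallyOfFiniteType (pullback.snd H.hom _))
    exact flat_surjective_fibre (k := (Spec R).residueField s) (GrpField.fibHom r s) (GrpField.fibHom p s)
      (ker_fibHom_eq_bot r hh s)
  haveI : Flat r.left := flat_of_fibHom r fun s => (hfib s).1
  haveI : Surjective r.left := (GrpField.surjective_iff_fibHom r).2 fun s => (hfib s).2
  haveI : IsSeparated r.left := by
    haveI : IsSeparated (r.left ≫ p.left) := by rw [← Over.comp_left, hrp]; infer_instance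
    exact IsSeparated.of_comp r.left p.left
  -- the generic fibre
  let q := pullback.fst X.hom b
  haveI : IsSchemeTheoreticallyDominant q := inferInstanceAs (IsSchemeTheoreticallyDominant (pullback.fst X.hom b))
  haveI : IsHull (pullback.snd r.left q) → IsAffineHom (pullback.snd r.left q) → IsIso (pullback.snd r.left q) :=
    fun h₁ _ => h₁.isIso_of_isAffineHom
  have hK : IsHull (pullback.snd r.left q) := hh.of_isPullback (IsPullback.of_hasPullback r.left q)
  haveI : IsAffineHom (pullback.snd r.left q) := by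
    let w : pullback X.hom b ⟶ pullback H.hom b :=
      pullback.lift (q ≫ π) (pullback.snd X.hom b) (by rw [Category.assoc]; exact pullback.condition)
    have hw : w ≫ pullback.fst H.hom b = q ≫ π := pullback.lift_fst _ _ _
    have sqw : IsPullback q w π (pullback.fst H.hom b) := by
      refine IsPullback.of_bot ?_ hw.symm (IsPullback.of_hasPullback H.hom b)
      rw [show w ≫ pullback.snd H.hom b = pullback.snd X.hom b from pullback.lift_snd _ _ _]
      exact IsPullback.of_hasPullback X.hom b
    have hw' : IsAffineHom w := MorphismProperty.of_isPullback sqw hπ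
    have sq : IsPullback (pullback.fst r.left q) (pullback.snd r.left q ≫ w) (r.left ≫ π)
        (pullback.fst H.hom b) := (IsPullback.of_hasPullback r.left q).paste_vert sqw
    have : IsAffineHom (pullback.snd r.left q ≫ w) := by
      have e : r.left ≫ π = u.left := hr₀
      rw [e] at sq
      rw [← sq.isoPullback_hom_snd]
      infer_instance
    exact MorphismProperty.of_postcomp (W := @IsAffineHom) (W' := @IsSeparated) _ w inferInstance this
  haveI : IsIso (pullback.snd r.left q) := hK.isIso_of_isAffineHom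
  haveI : Mono r.left := mono_of_generic r.left q fun T x y t hx hy => by
    have h : pullback.lift x t hx = pullback.lift y t hy := by
      rw [← cancel_mono (pullback.snd r.left q), pullback.lift_snd, pullback.lift_snd]
    exact (pullback.lift_fst _ _ hx).symm.trans
      ((congrArg (· ≫ pullback.fst r.left q) h).trans (pullback.lift_fst _ _ hy))
  haveI : IsIso r.left := Flat.isIso_of_surjective_of_mono r.left
  rw [← hrp, Over.comp_left]
  infer_instance

end Groth.Agent.RelHull
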